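import Cfsg.Agent.H92.LargeSimple
import Cfsg.Agent.H92.Extra
import Cfsg.Agent.S5422
import Cfsg.Agent.S5434
import Cfsg.Agent.S0095
import Cfsg.Agent.Compute.J2.Cent
import Cfsg.Agent.Compute.Simplicity
import Cfsg.Agent.Linear.Simple
import Cfsg.Agent.Linear.Order
import Cfsg.Prelude.Def_MonsterType

/-!
Groups of Held type are simple.
-/

set_option autoImplicit false
set_option linter.unusedSectionVars false

namespace Cfsg.Agent.H92.HeldType

open Matrix

theorem card_sl : Nat.card (SpecialLinearGroup (Fin 3) (ZMod 2)) = 168 := by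
  rw [Cfsg.Agent.Linear.card_SL_three, ZMod.card]
  norm_num

theorem sl_normal (N : Subgroup (SpecialLinearGroup (Fin 3) (ZMod 2))) [hN : N.Normal] :
    N = ⊥ ∨ N = ⊤ := by
  have hz : Subgroup.center (SpecialLinearGroup (Fin 3) (ZMod 2)) = ⊥ := by
    rw [← Subgroup.card_eq_one, Cfsg.Agent.Linear.card_center_SL, ZMod.card]
    rfl
  haveI : IsSimpleGroup (ProjectiveSpecialLinearGroup (Fin 3) (ZMod 2)) :=
    Cfsg.Agent.Linear.isSimpleGroup_PSL (Or.inl (by simp))
  set q := QuotientGroup.mk' (Subgroup.center (SpecialLinearGroup (Fin 3) (ZMod 2)))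
  have hinj : Function.Injective q := by
    rw [← MonoidHom.ker_eq_bot_iff, QuotientGroup.ker_mk', hz]
  rcases Subgroup.Normal.eq_bot_or_eq_top (Subgroup.Normal.map hN q (QuotientGroup.mk'_surjective _))
    with h | h
  · exact Or.inl ((Subgroup.map_eq_bot_iff_of_injective N hinj).1 h)
  · refine Or.inr (top_le_iff.1 fun x _ => ?_)
    obtain ⟨y, hy, e⟩ := h.ge (Subgroup.mem_top (q x))
    exact hinj e ▸ hy

variable {G : Type*} [Group G] [Finite G]

set_option maxHeartbeats 1600000 in
/-- In the setting of the Held type the group is simple and not commutative. -/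
theorem main {z : G} {Q : Subgroup (Subgroup.centralizer ({z} : Set G))} [hQn : Q.Normal]
    (hset : Cfsg.IsExtraspecialCentralizerSetting z Q 3)
    (e : (Subgroup.centralizer ({z} : Set G)) ⧸ Q ≃* SpecialLinearGroup (Fin 3) (ZMod 2))
    (h29 : Set.ncard {x : Subgroup.centralizer ({z} : Set G) | x ∈ Q ∧ IsConj z (x : G)} = 29) :
    IsSimpleGroup G ∧ ∃ a b : G, a * b ≠ b * a := by
  classical
  haveI : Fact (Nat.Prime 2) := ⟨Nat.prime_two⟩
  haveI : Fact (Nat.Prime 7) := ⟨by norm_num⟩
  obtain ⟨hz, hF, hQ, hcard, g, ⟨hgc, hgQ'⟩, hgne⟩ := hset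
  set P := Q.map (Subgroup.centralizer ({z} : Set G)).subtype with hP
  have hPC : P ≤ (Subgroup.centralizer ({z} : Set G)) := Subgroup.map_subtype_le Q
  have hPcard : Nat.card P = 128 := by
    rw [hP, Subgroup.card_map_of_injective Subtype.val_injective, hcard]; rfl
  have hPex : Cfsg.IsExtraspecial 2 P :=
    Compute.J2.extraspecial_congr (Q.equivMapOfInjective _ Subtype.val_injective) hQ
  obtain ⟨hzZ, hcenG, hconj, hCN⟩ := H92.centralizer_setting hPC (by rw [hF])
  have hzP : z ∈ P := H92.center_map_le hzZ
  have hz1 : z ≠ 1 := fun h => by rw [h, orderOf_one] at hz; omega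
  have hZ2 : ∀ x ∈ Subgroup.centralizer (P : Set G), x = 1 ∨ x = z := fun x hx =>
    H92.eq_one_or_center hPex hzZ hz1 (hcenG ▸ hx)
  have hZmem : ∀ x, x ∈ (Subgroup.center P).map P.subtype ↔ x = 1 ∨ x = z := fun x =>
    ⟨fun hx => H92.eq_one_or_center hPex hzZ hz1 hx, fun hx => by
      rcases hx with rfl | rfl
      · exact one_mem _
      · exact hzZ⟩
  set s := g * z * g⁻¹ with hs
  have hsP : s ∈ P := ⟨_, hgQ', rfl⟩
  -- largeness
  have hlarge : Cfsg.IsLargeExtraspecial P ∧
      (Subgroup.center P).map P.subtype ≤ P.map (MulAut.conj g).toMonoidHom := by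
    have hg : g ∉ Subgroup.normalizer (((Subgroup.center P).map P.subtype : Subgroup G) : Set G) := by
      intro hN
      rcases (hZmem _).1 ((Subgroup.mem_normalizer_iff.1 hN z).1 hzZ) with h | h
      · exact hz1 (conj_eq_one_iff.1 h)
      · exact hgne h
    have hZg : ((Subgroup.center P).map P.subtype).map (MulAut.conj g).toMonoidHom ≤ P := by
      rintro _ ⟨x, hx, rfl⟩
      rcases (hZmem x).1 hx with rfl | rfl
      · simp [one_mem]
      · exact hsP
    obtain ⟨h1, -, h2⟩ := S5422.result P hPex hcenG hCN 3 (by norm_num) (by rw [hPcard]; rfl) g hg hZg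
    exact ⟨h2, h1⟩
  obtain ⟨hlarge, -⟩ := hlarge
  -- elements of order seven of the centraliser fix only the centre
  have seven : ∀ b ∈ (Subgroup.centralizer ({z} : Set G)), orderOf b = 7 → ∀ x ∈ P, x * b = b * x → x = 1 ∨ x = z := by
    intro b hbC hb x hx hxb
    set A := Subgroup.zpowers b with hA
    have hAN : A ≤ Subgroup.normalizer (P : Set G) := Subgroup.zpowers_le.2
      (Subgroup.mem_normalizer_iff_map_conj_eq.2 (Subgroup.eq_of_le_of_card_ge (by
        rintro _ ⟨q, hq, rfl⟩; exact hconj q hq b hbC)
        (le_of_eq (Subgroup.card_map_of_injective (MulEquiv.injective _)).symm)))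
    have hAc : Nat.card A = 7 := by rw [hA, Nat.card_zpowers, hb]
    obtain ⟨-, -, -, h⟩ := S5434.result P hlarge A hAN (by rw [hAc]; decide)
      (fun h => by rw [h, Subgroup.card_bot] at hAc; omega)
    have hcA : Subgroup.centralizer (A : Set G) = Subgroup.centralizer ({b} : Set G) := by
      rw [hA, Subgroup.zpowers_eq_closure, Subgroup.centralizer_closure]
    rw [hcA] at h
    have hxF : x ∈ P ⊓ Subgroup.centralizer ({b} : Set G) :=
      ⟨hx, Subgroup.mem_centralizer_singleton_iff.2 hxb⟩
    rcases h with h | h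
    · exact (hZmem x).1 (h ▸ hxF)
    exfalso
    obtain ⟨n, hn, hcn⟩ := S0095.result h
    have hob : orderOf (⟨b, hbC⟩ : (Subgroup.centralizer ({z} : Set G))) = 7 := by rw [Subgroup.orderOf_mk, hb]
    have hmod := Compute.card_modEq_card_centralizer hob Q
    have hfix : Nat.card ↥(Q ⊓ Subgroup.centralizer {(⟨b, hbC⟩ : (Subgroup.centralizer ({z} : Set G)))}) =
        Nat.card ↥(P ⊓ Subgroup.centralizer ({b} : Set G)) := by
      rw [Nat.card_congr ((Q ⊓ Subgroup.centralizer {(⟨b, hbC⟩ : (Subgroup.centralizer ({z} : Set G)))}).equivMapOfInjective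
        (Subgroup.centralizer ({z} : Set G)).subtype Subtype.val_injective).toEquiv]
      refine Nat.card_congr (Equiv.subtypeEquivRight fun y => ?_)
      constructor
      · rintro ⟨w, ⟨hw, hwb⟩, rfl⟩
        exact ⟨⟨w, hw, rfl⟩, Subgroup.mem_centralizer_singleton_iff.2
          (congrArg Subtype.val (Subgroup.mem_centralizer_singleton_iff.1 hwb))⟩
      · rintro ⟨⟨w, hw, rfl⟩, hwb⟩
        exact ⟨w, ⟨hw, Subgroup.mem_centralizer_singleton_iff.2
          (Subtype.ext (Subgroup.mem_centralizer_singleton_iff.1 hwb))⟩, rfl⟩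
    rw [hfix, hcn, hcard] at hmod
    have hle : Nat.card ↥(P ⊓ Subgroup.centralizer ({b} : Set G)) ≤ 128 :=
      hPcard ▸ Nat.le_of_dvd Nat.card_pos (Subgroup.card_dvd_of_le inf_le_left)
    have hn3 : n = 3 := by
      rw [hcn] at hle
      have : n ≤ 3 := by
        by_contra h4
        have := Nat.pow_le_pow_right (show 0 < 2 by norm_num) (show 9 ≤ 2 * n + 1 by omega)
        omega
      interval_cases n <;> simp_all [Nat.ModEq]
    have hPb : P ⊓ Subgroup.centralizer ({b} : Set G) = P :=
      Subgroup.eq_of_le_of_card_ge inf_le_left (by rw [hPcard, hcn, hn3]; norm_num)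
    have hbcP : b ∈ Subgroup.centralizer (P : Set G) := Subgroup.mem_centralizer_iff.2 fun q hq =>
      Subgroup.mem_centralizer_singleton_iff.1 ((hPb.ge hq).2)
    rcases hZ2 b hbcP with h1 | h1 <;> rw [h1] at hb
    · rw [orderOf_one] at hb; omega
    · omega
  have hb7 : ∃ b ∈ (Subgroup.centralizer ({z} : Set G)), orderOf b = 7 := by
    have hC7 : 7 ∣ Nat.card (Subgroup.centralizer ({z} : Set G)) := by
      rw [← Subgroup.card_mul_index Q, Subgroup.index_eq_card, Nat.card_congr e.toEquiv, card_sl]
      exact dvd_mul_of_dvd_right (by norm_num) _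
    obtain ⟨b, hb⟩ := exists_prime_orderOf_dvd_card' (G := (Subgroup.centralizer ({z} : Set G))) 7 hC7
    exact ⟨b, b.2, by rw [Subgroup.orderOf_coe]; exact hb⟩
  have hnt : Nontrivial G := ⟨⟨z, 1, hz1⟩⟩
  refine ⟨⟨fun N hN => ?_⟩, ?_⟩
  · by_cases hbot : N = ⊥
    · exact Or.inl hbot
    refine Or.inr ?_
    haveI := hN
    have hzN : z ∈ N := H92.center_mem_normal hlarge hzZ hz1 hbot
    set M := N.subgroupOf (Subgroup.centralizer ({z} : Set G)) with hM
    haveI : M.Normal := hN.comap (Subgroup.centralizer ({z} : Set G)).subtype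
    -- the core lies in the normal subgroup
    set R := M ⊓ Q with hR
    have hS : {x : (Subgroup.centralizer ({z} : Set G)) | x ∈ Q ∧ IsConj z (x : G)} ⊆ (R : Set (Subgroup.centralizer ({z} : Set G))) := fun x hx =>
      ⟨Subgroup.mem_subgroupOf.2 (by
        obtain ⟨k, hk⟩ := isConj_iff.1 hx.2
        rw [← hk]; exact hN.conj_mem z hzN k), hx.1⟩
    have hR29 : 29 ≤ Nat.card R := by
      have := Set.ncard_le_ncard hS (Set.toFinite _)
      rw [h29] at this
      exact this.trans_eq (Nat.card_coe_set_eq _).symm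
    obtain ⟨b, hbC, hb⟩ := hb7
    have hzC : z ∈ (Subgroup.centralizer ({z} : Set G)) := Subgroup.mem_centralizer_singleton_iff.2 rfl
    have hzR : (⟨z, hzC⟩ : (Subgroup.centralizer ({z} : Set G))) ∈ R := ⟨Subgroup.mem_subgroupOf.2 hzN, by
      obtain ⟨w, hw, hwz⟩ := hzP
      exact (Subtype.ext hwz : w = ⟨z, hzC⟩) ▸ hw⟩
    have hmod := Compute.card_modEq_card_centralizer (p := 7)
      (x := (⟨b, hbC⟩ : (Subgroup.centralizer ({z} : Set G)))) (by rw [Subgroup.orderOf_mk, hb]) R
    have hfix2 : Nat.card ↥(R ⊓ Subgroup.centralizer {(⟨b, hbC⟩ : (Subgroup.centralizer ({z} : Set G)))}) = 2 := by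
      refine (Nat.card_eq_two_iff' 1).2 ⟨⟨⟨z, hzC⟩, hzR, Subgroup.mem_centralizer_singleton_iff.2
        (Subtype.ext (Subgroup.mem_centralizer_singleton_iff.1 hbC).symm)⟩, ?_, ?_⟩
      · intro h
        exact hz1 (congrArg (fun w : ↥(R ⊓ Subgroup.centralizer {(⟨b, hbC⟩ : (Subgroup.centralizer ({z} : Set G)))}) => ((w : (Subgroup.centralizer ({z} : Set G))) : G)) h)
      · rintro ⟨w, hwR, hwb⟩ hw1
        rcases seven b hbC hb (w : G) ⟨w, hwR.2, rfl⟩
          (congrArg Subtype.val (Subgroup.mem_centralizer_singleton_iff.1 hwb)) with h | h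
        · exact absurd (Subtype.ext (Subtype.ext h)) hw1
        · exact Subtype.ext (Subtype.ext h)
    rw [hfix2] at hmod
    have hRQ : R = Q := by
      refine Subgroup.eq_of_le_of_card_ge inf_le_right ?_
      obtain ⟨j, hj, hje⟩ := (Nat.dvd_prime_pow Nat.prime_two).1
        (show Nat.card R ∣ 2 ^ (2 * 3 + 1) from hcard ▸ Subgroup.card_dvd_of_le inf_le_right)
      rw [hje] at hR29 hmod
      rw [hcard, hje]
      interval_cases j <;> simp_all [Nat.ModEq]
    have hQN : P ≤ N := by
      rintro _ ⟨q, hq, rfl⟩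
      exact Subgroup.mem_subgroupOf.1 (hRQ.ge hq).1
    -- the centraliser lies in the normal subgroup
    have hnle : ¬ M ≤ Q := by
      intro hMQ
      have hconjN : ∀ y, y * s = s * y → y ∈ N → g⁻¹ * y * g ∈ P := fun y hys hyN => by
        have hyC : g⁻¹ * y * g ∈ (Subgroup.centralizer ({z} : Set G)) := Subgroup.mem_centralizer_singleton_iff.2 (by
          calc g⁻¹ * y * g * z = g⁻¹ * (y * s) * g := by rw [hs]; group
            _ = g⁻¹ * (s * y) * g := by rw [hys]
            _ = z * (g⁻¹ * y * g) := by rw [hs]; group)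
        have hyN' : g⁻¹ * y * g ∈ N := by
          simpa using hN.conj_mem y hyN g⁻¹
        exact ⟨⟨_, hyC⟩, hMQ (Subgroup.mem_subgroupOf.2 hyN'), rfl⟩
      have hsne : s ≠ 1 := fun h => hz1 (conj_eq_one_iff.1 h)
      -- squares and commutators in the centraliser of `s` in the core are trivial
      have hcomm : ∀ a ∈ P, ∀ c ∈ P, a * s = s * a → c * s = s * c → a * c = c * a := by
        intro a ha c hc has hcs
        have h1 : a * c * a⁻¹ * c⁻¹ = 1 ∨ a * c * a⁻¹ * c⁻¹ = z := (hZmem _).1 (by
          have := H92.commutator_mem_center_map hPex ha hc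
          exact this)
        rcases h1 with h1 | h1
        · rwa [mul_inv_eq_one, mul_inv_eq_iff_eq_mul] at h1
        exfalso
        have h2 : g⁻¹ * z * g = 1 ∨ g⁻¹ * z * g = z := (hZmem _).1 (by
          have := H92.commutator_mem_center_map hPex (hconjN a has (hQN ha)) (hconjN c hcs (hQN hc))
          rw [show g⁻¹ * a * g * (g⁻¹ * c * g) * (g⁻¹ * a * g)⁻¹ * (g⁻¹ * c * g)⁻¹ =
            g⁻¹ * (a * c * a⁻¹ * c⁻¹) * g by group, h1] at this
          exact this)
        rcases h2 with h2 | h2
        · exact hz1 (by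
            calc z = g * (g⁻¹ * z * g) * g⁻¹ := by group
              _ = 1 := by rw [h2]; group)
        · refine hgne ?_
          calc s = g * (g⁻¹ * z * g) * g⁻¹ := by rw [h2]
            _ = z := by group
      -- so `s` would be central
      set F := P ⊓ Subgroup.centralizer ({s} : Set G) with hFdef
      have hsF : ∀ a ∈ F, a * s = s * a := fun a ha => Subgroup.mem_centralizer_singleton_iff.1 ha.2
      by_cases hall : ∀ y ∈ P, y * s = s * y
      · rcases (hZmem _).1 (hcenG ▸ (Subgroup.mem_centralizer_iff.2 hall :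
          s ∈ Subgroup.centralizer (P : Set G))) with h | h
        · exact hsne h
        · exact hgne h
      simp only [not_forall] at hall
      obtain ⟨y, hy, hys⟩ := hall
      -- centraliser of `y` in `F` is central, of order at most two
      have hsmul : ∀ a ∈ P, ∀ c ∈ P, a * c = c * a ∨ a * c = c * a * z := fun a ha c hc => by
        have h1 := (hZmem _).1 (H92.commutator_mem_center_map hPex ha hc)
        rcases h1 with h1 | h1
        · rw [mul_inv_eq_one, mul_inv_eq_iff_eq_mul] at h1
          exact Or.inl h1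
        · refine Or.inr ?_
          rw [mul_inv_eq_iff_eq_mul, mul_inv_eq_iff_eq_mul] at h1
          rw [h1, mul_assoc, ← Subgroup.mem_centralizer_singleton_iff.1 (hPC (mul_mem hc ha))]
      let χ : G → G → Prop := fun a c => a * c = c * a
      have key : ∀ a ∈ P, a * y = y * a → a * s = s * a → a = 1 ∨ a = z := by
        intro a ha hay has
        refine hZ2 a (Subgroup.mem_centralizer_iff.2 fun q hq => ?_)
        rcases hsmul q hq s hsP with hq' | hq'
        · exact hcomm q hq a ha hq' has
        · -- then `q * y` commutes with `s`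
          have hqy : (q * y) * s = s * (q * y) := by
            rcases hsmul y hy s hsP with h' | h'
            · exact absurd h' hys
            calc q * y * s = q * (y * s) := mul_assoc _ _ _
              _ = q * s * (y * z) := by rw [h']; group
              _ = s * q * z * (y * z) := by rw [hq']
              _ = s * q * (y * (z * z)) := by
                rw [mul_assoc (s * q) z, ← mul_assoc z y z,
                  ← Subgroup.mem_centralizer_singleton_iff.1 (hPC hy), mul_assoc y z z]
              _ = s * (q * y) := by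
                rw [show z * z = 1 from by rw [← pow_two, ← hz, pow_orderOf_eq_one], mul_one,
                  mul_assoc]
          have h3 := hcomm (q * y) (mul_mem hq hy) a ha hqy has
          calc q * a = q * (a * y) * y⁻¹ := by group
            _ = (q * y) * a * y⁻¹ := by rw [hay]; group
            _ = a * q := by rw [h3]; group
      have h128 : Nat.card P ≤ 2 * (2 * 2) := by
        let f : G → G → ZMod 2 := fun c a => if a * c = c * a then 0 else 1
        haveI : Fintype G := Fintype.ofFinite G
        let φ : P → ZMod 2 × ZMod 2 := fun a => (f s a, f y a)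
        have hfib : ∀ a b : P, φ a = φ b → (a : G)⁻¹ * b = 1 ∨ (a : G)⁻¹ * b = z := by
          intro a b hab
          have hd : ∀ c ∈ P, f c a = f c b → ((a : G)⁻¹ * b) * c = c * ((a : G)⁻¹ * b) := by
            intro c hc e
            simp only [f] at e
            rcases hsmul a a.2 c hc with ha' | ha' <;> rcases hsmul b b.2 c hc with hb' | hb'
            · calc (a : G)⁻¹ * b * c = (a : G)⁻¹ * (c * b) := by rw [mul_assoc, hb']
                _ = (a : G)⁻¹ * (c * a) * ((a : G)⁻¹ * b) := by group
                _ = c * ((a : G)⁻¹ * b) := by rw [← ha']; group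
            · exfalso
              rw [if_pos ha', if_neg (by rw [hb']; exact fun h => hz1 (mul_eq_left.1 h))] at e
              simp at e
            · exfalso
              rw [if_pos hb', if_neg (by rw [ha']; exact fun h => hz1 (mul_eq_left.1 h))] at e
              simp at e
            · have hzab : (a : G)⁻¹ * b * z = z * ((a : G)⁻¹ * b) :=
                Subgroup.mem_centralizer_singleton_iff.1 (hPC (mul_mem (inv_mem a.2) b.2))
              calc (a : G)⁻¹ * b * c = (a : G)⁻¹ * (c * b * z) := by rw [mul_assoc, hb']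
                _ = (a : G)⁻¹ * (c * a * z) * (z⁻¹ * ((a : G)⁻¹ * b * z)) := by group
                _ = c * ((a : G)⁻¹ * b) := by rw [← ha', hzab, inv_mul_cancel_left]; group
          exact key _ (mul_mem (inv_mem a.2) b.2) (hd y hy (congrArg Prod.snd hab))
            (hd s hsP (congrArg Prod.fst hab))
        have hmap : ∀ a ∈ (Finset.univ : Finset P), φ a ∈ (Finset.univ : Finset (ZMod 2 × ZMod 2)) :=
          fun _ _ => Finset.mem_univ _
        have := Finset.card_le_mul_card_image_of_maps_to hmap 2 (fun v _ => by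
          by_cases hne : ∃ a : P, φ a = v
          · obtain ⟨a, ha⟩ := hne
            refine (Finset.card_le_card (t := {a, ⟨(a : G) * z, mul_mem a.2 hzP⟩}) ?_).trans
              Finset.card_le_two
            intro b hb
            simp only [Finset.mem_filter, Finset.mem_univ, true_and] at hb
            simp only [Finset.mem_insert, Finset.mem_singleton]
            rcases hfib a b (ha.trans hb.symm) with h | h
            · exact Or.inl (Subtype.ext (inv_mul_eq_one.1 h).symm)
            · exact Or.inr (Subtype.ext (inv_mul_eq_iff_eq_mul.1 h))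
          · rw [Finset.card_eq_zero.2]
            · norm_num
            · ext b; simp only [Finset.mem_filter, Finset.mem_univ, true_and, Finset.notMem_empty,
                iff_false]
              exact fun hb => hne ⟨b, hb⟩)
        rw [Finset.card_univ, Finset.card_univ] at this
        rw [Nat.card_eq_fintype_card]
        exact this.trans_eq rfl
      omega
    have hMQ : M ⊔ Q = ⊤ := by
      rcases sl_normal ((M.map (QuotientGroup.mk' Q)).map e.toMonoidHom)
        (hN := (Subgroup.Normal.map ‹M.Normal› _ (QuotientGroup.mk'_surjective Q)).map _ e.surjective)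
        with h | h
      · exfalso
        rw [Subgroup.map_eq_bot_iff_of_injective _ e.injective, Subgroup.map_eq_bot_iff,
          QuotientGroup.ker_mk'] at h
        exact hnle h
      · refine top_le_iff.1 fun c _ => ?_
        obtain ⟨_, ⟨m, hm, rfl⟩, hmc⟩ := h.ge (Subgroup.mem_top (e (QuotientGroup.mk c)))
        have hmq : m⁻¹ * c ∈ Q := QuotientGroup.eq.1 (e.injective hmc)
        rw [show c = m * (m⁻¹ * c) by group]
        exact Subgroup.mul_mem_sup hm hmq
    have hCle : (Subgroup.centralizer ({z} : Set G)) ≤ N := fun c hc => by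
      have h := hMQ.ge (Subgroup.mem_top (⟨c, hc⟩ : (Subgroup.centralizer ({z} : Set G))))
      have hle : M ⊔ Q ≤ M := sup_le le_rfl (fun q hq => (hRQ.ge hq).1)
      exact Subgroup.mem_subgroupOf.1 (hle h)
    exact H92.eq_top_of_centralizer_center_le hPex.1.1 hZ2 hz1 hzP hCle hQN
  · by_contra hc
    simp only [not_exists, not_not] at hc
    refine hgne ?_
    rw [hs, hc g z, mul_inv_cancel_right]

theorem simple_of_heldType (h : Cfsg.IsOfHeldType G) :
    IsSimpleGroup G ∧ ∃ a b : G, a * b ≠ b * a := by
  obtain ⟨z, Q, hn, hset, ⟨e⟩, h29⟩ := h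
  exact main hset e h29

end Cfsg.Agent.H92.HeldType
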